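import Mathlib
import Cfsg.Agent.Class.SL2Quat

/-!
Central products `L₁ ∘ L₂` of two groups behaving like `SL₂(q)`, `q` odd, amalgamating the central
involution `j`: the elements with square `1` or `j`.
-/

set_option autoImplicit false

namespace Cfsg.Agent.Misc.SL2C

open Matrix MatrixGroups Subgroup
open Cfsg.Agent.KSG.M2 Cfsg.Agent.Class.Dickson

variable {G : Type*} [Group G]

/-- The properties of `SL₂(q)`, `q` odd, with its involution `j`, that are used below. -/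
structure Like (L : Subgroup G) (j : G) : Prop where
  mem : j ∈ L
  sq : j * j = 1
  ne : j ≠ 1
  sq_one : ∀ a ∈ L, a * a = 1 → a = 1 ∨ a = j
  ex : ∃ a ∈ L, a * a = j
  conj : ∀ a ∈ L, ∀ b ∈ L, a * a = j → b * b = j → ∃ c ∈ L, c * a * c⁻¹ = b
  cent : ∀ c ∈ L, (∀ a ∈ L, a * a = j → c * a = a * c) → c = 1 ∨ c = j

theorem like_of_equiv {F : Type*} [Field F] [Fintype F] (hF : Odd (Fintype.card F))
    {L : Subgroup G} (e : L ≃* SL(2, F)) {j : G} (hjL : j ∈ L) (hj : orderOf j = 2) :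
    Like L j := by
  have h2 : (2 : F) ≠ 0 := Class.Dickson.two_ne_zero_of_odd_card hF
  have hjj : j * j = 1 := by rw [← pow_two, ← hj, pow_orderOf_eq_one]
  have hj1 : j ≠ 1 := by rintro rfl; simp at hj
  have hone : ∀ a : L, (a : G) * a = 1 → e a = 1 ∨ e a = -1 := fun a ha => by
    refine (SL_sq_eq_one_iff h2).1 ?_
    rw [pow_two, ← map_mul, show a * a = 1 from Subtype.ext ha, map_one]
  have hej : e ⟨j, hjL⟩ = -1 := by
    refine (hone ⟨j, hjL⟩ hjj).resolve_left fun h => hj1 ?_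
    exact congrArg Subtype.val (e.injective (h.trans e.map_one.symm))
  have hpm : ∀ a : L, e a = 1 ∨ e a = -1 → (a : G) = 1 ∨ (a : G) = j := by
    rintro a (h | h)
    · exact Or.inl (congrArg Subtype.val (e.injective (h.trans e.map_one.symm)))
    · exact Or.inr (congrArg Subtype.val (e.injective (h.trans hej.symm)))
  have hsq : ∀ a : L, (a : G) * a = j ↔ e a * e a = -1 := fun a => by
    rw [← map_mul, ← hej, e.apply_eq_iff_eq, Subtype.ext_iff]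
    rfl
  obtain ⟨g, w, hq⟩ := exists_quatPair h2
  refine ⟨hjL, hjj, hj1, fun a ha h => hpm ⟨a, ha⟩ (hone ⟨a, ha⟩ h), ?_, ?_, ?_⟩
  · exact ⟨e.symm g, (e.symm g).2, (hsq _).2 (by simpa using hq.sq_left)⟩
  · intro a ha b hb h1 h3
    have t1 := SL_sq_eq_neg_one_iff.1 ((hsq ⟨a, ha⟩).1 h1)
    have t2 := SL_sq_eq_neg_one_iff.1 ((hsq ⟨b, hb⟩).1 h3)
    obtain ⟨c, hc⟩ := isConj_iff.1 (SL_isConj_of_trace' (t1.trans t2.symm) (zero_sq_ne_four h2 t1))
    refine ⟨e.symm c, (e.symm c).2, ?_⟩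
    have : e.symm c * ⟨a, ha⟩ * (e.symm c)⁻¹ = ⟨b, hb⟩ := e.injective (by simpa using hc)
    exact congrArg Subtype.val this
  · intro c hc h
    refine hpm ⟨c, hc⟩ ?_
    have key : ∀ x : SL(2, F), x * x = -1 → e ⟨c, hc⟩ * x * (e ⟨c, hc⟩)⁻¹ = x := by
      intro x hx
      have h1 := h (e.symm x) (e.symm x).2 ((hsq _).2 (by simpa using hx))
      have h3 : (⟨c, hc⟩ : L) * e.symm x = e.symm x * ⟨c, hc⟩ := Subtype.ext h1
      have h4 := congrArg e h3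
      simp only [map_mul, MulEquiv.apply_symm_apply] at h4
      rw [h4, mul_inv_cancel_right]
    exact hq.eq_of_centralizes (key g hq.sq_left) (key w hq.sq_right)

theorem mem_zpowers_iff_of_sq {j x : G} (hj : j * j = 1) : x ∈ zpowers j ↔ x = 1 ∨ x = j := by
  constructor
  · rintro ⟨k, rfl⟩
    have h2 : j ^ (2 : ℤ) = 1 := by rw [zpow_two, hj]
    rcases Int.even_or_odd' k with ⟨m, rfl | rfl⟩
    · left; simp only; rw [_root_.zpow_mul, h2, _root_.one_zpow]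
    · right; simp only; rw [_root_.zpow_add, _root_.zpow_mul, h2, _root_.one_zpow, one_mul, zpow_one]
  · rintro (rfl | rfl)
    · exact one_mem _
    · exact mem_zpowers _

theorem exists_mul_of_mem_sup {L₁ L₂ : Subgroup G} (hc : ∀ x ∈ L₁, ∀ y ∈ L₂, x * y = y * x)
    {v : G} (hv : v ∈ L₁ ⊔ L₂) : ∃ a ∈ L₁, ∃ b ∈ L₂, v = a * b := by
  let T : Subgroup G :=
    { carrier := {v | ∃ a ∈ L₁, ∃ b ∈ L₂, v = a * b}
      one_mem' := ⟨1, one_mem _, 1, one_mem _, by simp⟩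
      mul_mem' := by
        rintro _ _ ⟨a, ha, b, hb, rfl⟩ ⟨c, hc', d, hd, rfl⟩
        refine ⟨a * c, mul_mem ha hc', b * d, mul_mem hb hd, ?_⟩
        rw [mul_assoc, ← mul_assoc b, ← hc c hc' b hb]
        group
      inv_mem' := by
        rintro _ ⟨a, ha, b, hb, rfl⟩
        refine ⟨a⁻¹, inv_mem ha, b⁻¹, inv_mem hb, ?_⟩
        rw [hc a ha b hb, _root_.mul_inv_rev] }
  have : L₁ ⊔ L₂ ≤ T := sup_le (fun a ha => ⟨a, ha, 1, one_mem _, by simp⟩)
    (fun b hb => ⟨1, one_mem _, b, hb, by simp⟩)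
  exact this hv

/-- A central product of two groups like `SL₂(q)`. -/
structure Pair (L₁ L₂ : Subgroup G) (j : G) : Prop where
  left : Like L₁ j
  right : Like L₂ j
  comm : ∀ x ∈ L₁, ∀ y ∈ L₂, x * y = y * x
  inf : ∀ x ∈ L₁, x ∈ L₂ → x = 1 ∨ x = j

namespace Pair

variable {L₁ L₂ : Subgroup G} {j : G} (h : Pair L₁ L₂ j)
include h

theorem symm : Pair L₂ L₁ j :=
  ⟨h.right, h.left, fun x hx y hy => (h.comm y hy x hx).symm, fun x hx hy => h.inf x hy hx⟩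

theorem mul_sq {a b : G} (ha : a ∈ L₁) (hb : b ∈ L₂) : a * b * (a * b) = a * a * (b * b) := by
  rw [mul_assoc, ← mul_assoc b, ← h.comm a ha b hb]; group

theorem sq_cases {a b z : G} (ha : a ∈ L₁) (hb : b ∈ L₂) (hz : z ∈ L₂)
    (e : a * b * (a * b) = z) : a * a = 1 ∨ a * a = j := by
  rw [h.mul_sq ha hb] at e
  refine h.inf _ (mul_mem ha ha) ?_
  rw [eq_mul_inv_of_mul_eq e]
  exact mul_mem hz (inv_mem (mul_mem hb hb))

/-- An element of `L₁ L₂` with square `j` lies in one of the factors. -/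
theorem mem_or_mem {v : G} (hv : v ∈ L₁ ⊔ L₂) (e : v * v = j) : v ∈ L₁ ∨ v ∈ L₂ := by
  obtain ⟨a, ha, b, hb, rfl⟩ := exists_mul_of_mem_sup h.comm hv
  rcases h.sq_cases ha hb h.right.mem e with h1 | h1
  · right
    rcases h.left.sq_one a ha h1 with rfl | rfl
    · simpa using hb
    · exact mul_mem h.right.mem hb
  · left
    rw [h.mul_sq ha hb, h1, mul_eq_left] at e
    rcases h.right.sq_one b hb e with rfl | rfl
    · simpa using ha
    · exact mul_mem ha h.left.mem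

/-- `L₁` is the centralizer in `L₁ L₂` of the elements of `L₂` with square `j`. -/
theorem mem_left_of_cent {v : G} (hv : v ∈ L₁ ⊔ L₂)
    (e : ∀ b ∈ L₂, b * b = j → v * b = b * v) : v ∈ L₁ := by
  obtain ⟨a, ha, c, hc, rfl⟩ := exists_mul_of_mem_sup h.comm hv
  have : c = 1 ∨ c = j := by
    refine h.right.cent c hc fun b hb hbj => ?_
    have h1 := e b hb hbj
    rw [← mul_assoc, ← h.comm a ha b hb, mul_assoc, mul_assoc] at h1
    exact mul_left_cancel h1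
  rcases this with rfl | rfl
  · simpa using ha
  · exact mul_mem ha h.left.mem

theorem conj_mem_left {v a : G} (hv : v ∈ L₁ ⊔ L₂) (ha : a ∈ L₁) : v * a * v⁻¹ ∈ L₁ := by
  obtain ⟨x, hx, y, hy, rfl⟩ := exists_mul_of_mem_sup h.comm hv
  have : x * y * a * (x * y)⁻¹ = x * a * x⁻¹ := by
    rw [mul_assoc x y, ← h.comm a ha y hy]; group
  rw [this]
  exact mul_mem (mul_mem hx ha) (inv_mem hx)

/-- An element normalizing `L₁ L₂` and centralizing `j` maps the elements of `L₁` with square `j`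
all into `L₁` or all into `L₂`. -/
theorem conj_dichotomy {m : G} (hm : ∀ v ∈ L₁ ⊔ L₂, m * v * m⁻¹ ∈ L₁ ⊔ L₂)
    (hmj : m * j * m⁻¹ = j) :
    (∀ a ∈ L₁, a * a = j → m * a * m⁻¹ ∈ L₁) ∨ (∀ a ∈ L₁, a * a = j → m * a * m⁻¹ ∈ L₂) := by
  obtain ⟨a₀, ha₀, e₀⟩ := h.left.ex
  have e₁ : m * a₀ * m⁻¹ * (m * a₀ * m⁻¹) = j := by rw [← hmj, ← e₀]; group
  have key : ∀ a ∈ L₁, a * a = j → ∃ v ∈ L₁ ⊔ L₂, m * a * m⁻¹ = v * (m * a₀ * m⁻¹) * v⁻¹ := by
    intro a ha e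
    obtain ⟨c, hc, rfl⟩ := h.left.conj a₀ ha₀ a ha e₀ e
    exact ⟨m * c * m⁻¹, hm c (mem_sup_left hc), by group⟩
  rcases h.mem_or_mem (hm a₀ (mem_sup_left ha₀)) e₁ with h1 | h1
  · left
    intro a ha e
    obtain ⟨v, hv, hv'⟩ := key a ha e
    rw [hv']
    exact h.conj_mem_left hv h1
  · right
    intro a ha e
    obtain ⟨v, hv, hv'⟩ := key a ha e
    rw [hv']
    exact h.symm.conj_mem_left (sup_comm L₁ L₂ ▸ hv) h1

/-- The two classes of involutions of `L₁ L₂`. -/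
theorem two_classes : ∃ x ∈ L₁ ⊔ L₂, x * x = 1 ∧ x ≠ 1 ∧ x ≠ j ∧
    ∀ y ∈ L₁ ⊔ L₂, y * y = 1 → y ≠ 1 → y = j ∨ ∃ g ∈ L₁ ⊔ L₂, g * x * g⁻¹ = y := by
  obtain ⟨a, ha, ea⟩ := h.left.ex
  obtain ⟨b, hb, eb⟩ := h.right.ex
  have hn : a * b ∉ L₂ := by
    intro hm
    have : a ∈ L₂ := by simpa using mul_mem hm (inv_mem hb)
    rcases h.inf a ha this with rfl | rfl
    · exact h.left.ne (by simpa using ea.symm)
    · exact h.left.ne (ea.symm.trans h.left.sq)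
  refine ⟨a * b, mul_mem_sup ha hb, by rw [h.mul_sq ha hb, ea, eb, h.left.sq],
    fun e => hn (e ▸ one_mem _), fun e => hn (e ▸ h.right.mem), ?_⟩
  intro y hy e hy1
  obtain ⟨c, hc, d, hd, rfl⟩ := exists_mul_of_mem_sup h.comm hy
  rcases h.sq_cases hc hd (one_mem _) e with h1 | h1
  · left
    rw [h.mul_sq hc hd, h1, one_mul] at e
    rcases h.left.sq_one c hc h1 with rfl | rfl <;> rcases h.right.sq_one d hd e with e' | e'
    · simp [e'] at hy1
    · simpa using e'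
    · simp [e']
    · rw [e', h.left.sq] at hy1
      exact (hy1 rfl).elim
  · right
    rw [h.mul_sq hc hd, h1] at e
    have e2 : d * d = j := by
      rw [eq_inv_of_mul_eq_one_right e, ← eq_inv_of_mul_eq_one_right h.left.sq]
    obtain ⟨u, hu, rfl⟩ := h.left.conj a ha c hc ea h1
    obtain ⟨w, hw, rfl⟩ := h.right.conj b hb d hd eb e2
    refine ⟨u * w, mul_mem_sup hu hw, ?_⟩
    have c1 : w * a = a * w := (h.comm a ha w hw).symm
    have c2 : u⁻¹ * (w * b * w⁻¹) = (w * b * w⁻¹) * u⁻¹ := h.comm _ (inv_mem hu) _ hd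
    calc u * w * (a * b) * (u * w)⁻¹ = u * (w * a) * b * w⁻¹ * u⁻¹ := by group
      _ = u * a * ((w * b * w⁻¹) * u⁻¹) := by rw [c1]; group
      _ = _ := by rw [← c2]; group

/-- An element normalizing `L₁ L₂` and centralizing `j` normalizes or interchanges the factors. -/
theorem conj_factors {n : G} (hn : n ∈ normalizer ((L₁ ⊔ L₂ : Subgroup G) : Set G))
    (hnj : n * j * n⁻¹ = j) :
    ((∀ a ∈ L₁, n * a * n⁻¹ ∈ L₁) ∧ (∀ a ∈ L₂, n * a * n⁻¹ ∈ L₂)) ∨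
      ((∀ a ∈ L₁, n * a * n⁻¹ ∈ L₂) ∧ (∀ a ∈ L₂, n * a * n⁻¹ ∈ L₁)) := by
  have hn1 : ∀ v ∈ L₁ ⊔ L₂, n * v * n⁻¹ ∈ L₁ ⊔ L₂ := fun v hv =>
    (mem_normalizer_iff.1 hn v).1 hv
  have hn2 : ∀ v ∈ L₁ ⊔ L₂, n⁻¹ * v * n⁻¹⁻¹ ∈ L₁ ⊔ L₂ := fun v hv =>
    (mem_normalizer_iff.1 (inv_mem hn) v).1 hv
  have hnj2 : n⁻¹ * j * n⁻¹⁻¹ = j := by
    nth_rewrite 1 [← hnj]; group
  have cm : ∀ x b : G, x * (n⁻¹ * b * n⁻¹⁻¹) = (n⁻¹ * b * n⁻¹⁻¹) * x →
      (n * x * n⁻¹) * b = b * (n * x * n⁻¹) := by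
    intro x b e
    calc (n * x * n⁻¹) * b = n * (x * (n⁻¹ * b * n⁻¹⁻¹)) * n⁻¹ := by group
      _ = _ := by rw [e]; group
  have sc : L₂ ⊔ L₁ = L₁ ⊔ L₂ := sup_comm _ _
  have bad : ∀ x : G, x * x = j → n * x * n⁻¹ ∈ L₁ → n * x * n⁻¹ ∈ L₂ → False := by
    intro x e h1 h2
    have e₁ : n * x * n⁻¹ * (n * x * n⁻¹) = j := by rw [← hnj, ← e]; group
    rcases h.inf _ h1 h2 with e' | e'
    · rw [e', one_mul] at e₁
      exact h.left.ne e₁.symm
    · rw [e', h.left.sq] at e₁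
      exact h.left.ne e₁.symm
  rcases h.conj_dichotomy hn2 hnj2 with h1 | h1 <;>
    rcases h.symm.conj_dichotomy (sc ▸ hn2) hnj2 with h2 | h2
  · left
    exact ⟨fun a ha => h.mem_left_of_cent (hn1 a (mem_sup_left ha))
        fun b hb e => cm a b (h.comm a ha _ (h2 b hb e)),
      fun a ha => h.symm.mem_left_of_cent (sc ▸ hn1 a (mem_sup_right ha))
        fun b hb e => cm a b (h.symm.comm a ha _ (h1 b hb e))⟩
  · obtain ⟨x, hx, e⟩ := h.right.ex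
    exact (bad x e (h.mem_left_of_cent (hn1 x (mem_sup_right hx))
        fun b hb e => cm x b (h.symm.comm x hx _ (h2 b hb e)))
      (h.symm.mem_left_of_cent (sc ▸ hn1 x (mem_sup_right hx))
        fun b hb e => cm x b (h.symm.comm x hx _ (h1 b hb e)))).elim
  · obtain ⟨x, hx, e⟩ := h.left.ex
    exact (bad x e (h.mem_left_of_cent (hn1 x (mem_sup_left hx))
        fun b hb e => cm x b (h.comm x hx _ (h2 b hb e)))
      (h.symm.mem_left_of_cent (sc ▸ hn1 x (mem_sup_left hx))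
        fun b hb e => cm x b (h.comm x hx _ (h1 b hb e)))).elim
  · right
    exact ⟨fun a ha => h.symm.mem_left_of_cent (sc ▸ hn1 a (mem_sup_left ha))
        fun b hb e => cm a b (h.comm a ha _ (h1 b hb e)),
      fun a ha => h.mem_left_of_cent (hn1 a (mem_sup_right ha))
        fun b hb e => cm a b (h.symm.comm a ha _ (h2 b hb e))⟩

end Pair

theorem pair_of_equiv {F₁ : Type*} [Field F₁] [Fintype F₁] {F₂ : Type*} [Field F₂] [Fintype F₂]
    (hF₁ : Odd (Fintype.card F₁)) (hF₂ : Odd (Fintype.card F₂)) {L₁ L₂ : Subgroup G}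
    (e₁ : L₁ ≃* SL(2, F₁)) (e₂ : L₂ ≃* SL(2, F₂)) (hc : ∀ x ∈ L₁, ∀ y ∈ L₂, x * y = y * x)
    {j : G} (hj : orderOf j = 2) (hm : L₁ ⊓ L₂ = zpowers j) : Pair L₁ L₂ j := by
  have hjm : j ∈ L₁ ⊓ L₂ := hm ▸ mem_zpowers j
  have h1 := like_of_equiv hF₁ e₁ hjm.1 hj
  exact ⟨h1, like_of_equiv hF₂ e₂ hjm.2 hj, hc,
    fun x hx hy => (mem_zpowers_iff_of_sq h1.sq).1 (hm ▸ (⟨hx, hy⟩ : x ∈ L₁ ⊓ L₂))⟩

end Cfsg.Agent.Misc.SL2C
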