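import Mathlib
import Cfsg.Agent.Misc.Spectrum
import Cfsg.Agent.Grp.Card

/-!
Mazurov's lemma: if `G/Q` (`Q` a normal `p`-subgroup) contains a Frobenius group `K ⟨x⟩` with
`p ∤ |K|` and `K` not centralizing `Q`, then `G` has an element of order `p · |x|`.
-/

set_option autoImplicit false

namespace Cfsg.Agent.Misc.Spec

universe u

/-- If the norm of `x` vanishes on `V`, the kernel of the Frobenius group `K ⟨x⟩` acts trivially
up to the `|K|`-th power. -/
theorem pow_card_eq_one_of_norm {H V : Type*} [Group H] [Finite H] [CommGroup V]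
    (φ : H →* MulAut V) (K : Subgroup H) {x : H} (hx : x ∈ Subgroup.normalizer (K : Set H))
    (hfpf : ∀ i : ℕ, x ^ i ≠ 1 → ∀ k ∈ K, x ^ i * k = k * x ^ i → k = 1)
    (hN : ∀ v, ∏ i ∈ Finset.range (orderOf x), φ (x ^ i) v = 1) {k₀ : H} (hk₀ : k₀ ∈ K) (w : V) :
    (w⁻¹ * φ k₀ w) ^ Nat.card K = 1 := by
  classical
  have := Fintype.ofFinite K
  set v := w⁻¹ * φ k₀ w with hv
  have hT : ∀ k₁ ∈ K, ∀ u : V, ∏ k : K, φ k (φ k₁ u) = ∏ k : K, φ k u := by
    intro k₁ hk₁ u
    refine Fintype.prod_equiv (Equiv.mulRight (⟨k₁, hk₁⟩ : K)) _ _ fun k => ?_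
    simp
  have hT1 : ∀ h ∈ Subgroup.normalizer (K : Set H), ∏ k : K, φ k (φ h v) = 1 := by
    intro h hh
    have h1 : φ h v = (φ h w)⁻¹ * φ (h * k₀ * h⁻¹) (φ h w) := by
      simp [hv]
    simp only [h1, map_mul (φ _), map_inv (φ _), Finset.prod_mul_distrib, Finset.prod_inv_distrib]
    rw [hT _ ((Subgroup.mem_normalizer_iff.1 hh k₀).1 hk₀), inv_mul_cancel]
  have hA : ∏ k : K, ∏ i ∈ Finset.range (orderOf x), φ (k * x ^ i * (k : H)⁻¹) v = 1 := by
    refine Finset.prod_eq_one fun k _ => ?_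
    have := congrArg (φ k) (hN (φ (k : H)⁻¹ v))
    rw [map_prod, map_one] at this
    simpa using this
  rw [Finset.prod_comm, Finset.prod_eq_single_of_mem 0 (Finset.mem_range.2 (orderOf_pos x))] at hA
  · simpa [Nat.card_eq_fintype_card] using hA
  · intro i hi hi0
    have hxi : x ^ i ≠ 1 := pow_ne_one_of_lt_orderOf hi0 (Finset.mem_range.1 hi)
    have hn : x ^ i ∈ Subgroup.normalizer (K : Set H) := Subgroup.pow_mem _ hx i
    let c : K → K := fun k => ⟨k * (x ^ i * (k : H)⁻¹ * (x ^ i)⁻¹),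
      K.mul_mem k.2 ((Subgroup.mem_normalizer_iff.1 hn _).1 (K.inv_mem k.2))⟩
    have hc : Function.Injective c := by
      intro a b hab
      have h1 : (a : H) * (x ^ i * (a : H)⁻¹ * (x ^ i)⁻¹) = b * (x ^ i * (b : H)⁻¹ * (x ^ i)⁻¹) :=
        congrArg Subtype.val hab
      have h2 := hfpf i hxi ((b : H)⁻¹ * a) (K.mul_mem (K.inv_mem b.2) a.2) (by
        calc x ^ i * ((b : H)⁻¹ * a)
            = (b : H)⁻¹ * (b * (x ^ i * (b : H)⁻¹ * (x ^ i)⁻¹)) * x ^ i * a := by group
          _ = (b : H)⁻¹ * a * x ^ i := by rw [← h1]; group)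
      exact Subtype.ext (inv_mul_eq_one.1 h2).symm
    rw [← hT1 _ hn]
    refine Fintype.prod_bijective c (Finite.injective_iff_bijective.1 hc) _ _ fun k => ?_
    rw [← MulAut.mul_apply, ← map_mul]
    congr 2
    simp only [c]
    group

theorem mul_pow_eq_prod {G : Type*} [Group G] (V : Subgroup G) [V.Normal] [IsMulCommutative V]
    (y : G) (v : V) (n : ℕ) :
    letI : CommGroup V := { (inferInstance : Group V) with mul_comm := mul_comm' }
    ((v : G) * y) ^ n =
      ((∏ i ∈ Finset.range n, MulAut.conjNormal (y ^ i) v : V) : G) * y ^ n := by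
  letI : CommGroup V := { (inferInstance : Group V) with mul_comm := mul_comm' }
  induction n with
  | zero => simp
  | succ n ih =>
    rw [pow_succ, ih, Finset.prod_range_succ, Subgroup.coe_mul, MulAut.conjNormal_apply]
    group

theorem mazurov_aux {p : ℕ} [hp : Fact p.Prime] {H : Type*} [Group H] [Finite H] (K : Subgroup H)
    {x : H} (hx : x ∈ Subgroup.normalizer (K : Set H))
    (hfpf : ∀ i : ℕ, x ^ i ≠ 1 → ∀ k ∈ K, x ^ i * k = k * x ^ i → k = 1)
    (hK : ¬ p ∣ Nat.card K) (G : Type u) [Group G] [Finite G] :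
    ∀ f : G →* H, Function.Surjective f → IsPGroup p f.ker →
      ∀ g : G, f g ∈ K → (orderOf g).Coprime p → (∃ q ∈ f.ker, g * q ≠ q * g) →
      p * orderOf x ∈ Set.range (orderOf : G → ℕ) := by
  revert G
  refine Grp.card_induction fun G _ _ ih f hf hQ g hgK hgp ⟨q, hq, hgq⟩ => ?_
  let V : Subgroup G := (Subgroup.center f.ker).map f.ker.subtype
  have hVn : V.Normal := inferInstance
  have hVQ : V ≤ f.ker := Subgroup.map_subtype_le _
  have hVc : ∀ v ∈ V, ∀ a ∈ f.ker, a * v = v * a := by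
    rintro _ ⟨v, hv, rfl⟩ a ha
    exact congrArg Subtype.val (Subgroup.mem_center_iff.1 hv ⟨a, ha⟩)
  have hpV : ∀ v ∈ V, ∀ n : ℕ, n.Coprime p → v ^ n = 1 → v = 1 := by
    intro v hv n hn h
    obtain ⟨k, hk⟩ := hQ ⟨v, hVQ hv⟩
    have h1 : v ^ p ^ k = 1 := congrArg Subtype.val hk
    have h2 := Nat.dvd_gcd (orderOf_dvd_of_pow_eq_one h) (orderOf_dvd_of_pow_eq_one h1)
    rw [hn.pow_right k, Nat.dvd_one, orderOf_eq_one_iff] at h2
    exact h2
  by_cases hgV : ∀ v ∈ V, g * v = v * g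
  · have hV1 : V ≠ ⊥ := by
      have : Nontrivial f.ker := ⟨⟨q, hq⟩, 1, fun h => hgq (by
        rw [show q = 1 from congrArg Subtype.val h, mul_one, one_mul])⟩
      rw [Ne, Subgroup.map_eq_bot_iff_of_injective _ f.ker.subtype_injective]
      exact (Subgroup.nontrivial_iff_ne_bot _).1 hQ.center_nontrivial
    have hlt : Nat.card (G ⧸ V) < Nat.card G := by
      rw [← Grp.card_quotient_mul_card V]
      exact lt_mul_of_one_lt_right Nat.card_pos (Subgroup.one_lt_card_iff_ne_bot _ |>.2 hV1)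
    refine range_orderOf_subset_of_surjective (QuotientGroup.mk' V) (QuotientGroup.mk'_surjective V)
      (ih (G ⧸ V) hlt (QuotientGroup.lift V f hVQ) ?_ ?_ (g : G ⧸ V) hgK
        (hgp.coprime_dvd_left (orderOf_map_dvd (QuotientGroup.mk' V) g)) ⟨(q : G ⧸ V), hq, ?_⟩)
    · intro h
      obtain ⟨a, rfl⟩ := hf h
      exact ⟨a, rfl⟩
    · rw [QuotientGroup.ker_lift]
      exact hQ.map _
    · intro h
      rw [← QuotientGroup.mk_mul, ← QuotientGroup.mk_mul, QuotientGroup.eq] at h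
      set v := (g * q)⁻¹ * (q * g) with hv
      have h2 : ∀ n : ℕ, q * g ^ n = g ^ n * q * v ^ n := by
        intro n
        induction n with
        | zero => simp
        | succ n ih =>
          have h3 : v ^ n * g = g * v ^ n := (hgV _ (V.pow_mem h n)).symm
          have h4 : q * g = g * q * v := by rw [hv]; group
          rw [pow_succ, ← mul_assoc, ih, mul_assoc, h3, ← mul_assoc, mul_assoc (g ^ n), h4, pow_succ']
          group
      have h5 := h2 (orderOf g)
      rw [pow_orderOf_eq_one, mul_one, one_mul, left_eq_mul] at h5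
      have h6 := hpV v h _ hgp h5
      rw [hv, inv_mul_eq_one] at h6
      exact hgq h6
  · push Not at hgV
    obtain ⟨w, hw, hgw⟩ := hgV
    have : IsMulCommutative V := ⟨⟨fun a b => Subtype.ext (hVc _ b.2 _ (hVQ a.2))⟩⟩
    letI : CommGroup V := { (inferInstance : Group V) with mul_comm := mul_comm' }
    let φ : H →* MulAut V := f.liftOfSurjective hf ⟨MulAut.conjNormal, fun a ha => by
      ext v
      rw [MulAut.conjNormal_apply, hVc _ v.2 a ha]
      simp⟩
    have hφ : ∀ a : G, φ (f a) = MulAut.conjNormal a := fun a =>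
      f.liftOfRightInverse_comp_apply _ _ _ a
    obtain ⟨y, rfl⟩ := hf x
    obtain ⟨v, hv⟩ : ∃ v : V, ∏ i ∈ Finset.range (orderOf (f y)), φ (f y ^ i) v ≠ 1 := by
      by_contra hcon
      push Not at hcon
      have h1 := pow_card_eq_one_of_norm φ K hx hfpf hcon hgK ⟨w, hw⟩
      rw [hφ] at h1
      have h2 := hpV _ (Subtype.property _) _ ((Nat.Prime.coprime_iff_not_dvd hp.out).2 hK).symm
        (congrArg Subtype.val h1)
      rw [Subgroup.coe_mul, MulAut.conjNormal_apply] at h2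
      apply hgw
      have h3 : w⁻¹ * (g * w * g⁻¹) = 1 := h2
      rw [inv_mul_eq_one, eq_mul_inv_iff_mul_eq] at h3
      exact h3.symm
    obtain ⟨z, hz, hz1⟩ : ∃ z : G, f z = f y ∧ z ^ orderOf (f y) ≠ 1 := by
      by_cases hy : y ^ orderOf (f y) = 1
      · refine ⟨v * y, by rw [map_mul, show f v = 1 from hVQ v.2, one_mul], fun h => hv ?_⟩
        rw [mul_pow_eq_prod, hy, mul_one] at h
        simp only [← map_pow, hφ]
        exact Subtype.ext h
      · exact ⟨y, rfl, hy⟩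
    have h1 : orderOf (f y) ∣ orderOf z := hz ▸ orderOf_map_dvd f z
    have h2 : z ^ orderOf (f y) ∈ f.ker := by
      rw [MonoidHom.mem_ker, map_pow, hz, pow_orderOf_eq_one]
    obtain ⟨k, hk⟩ := (IsPGroup.iff_orderOf.1 hQ) ⟨_, h2⟩
    rw [Subgroup.orderOf_mk, orderOf_pow_of_dvd (orderOf_pos _).ne' h1] at hk
    have hk0 : k ≠ 0 := by
      rintro rfl
      apply hz1
      rw [← orderOf_eq_one_iff, orderOf_pow_of_dvd (orderOf_pos _).ne' h1, hk, pow_zero]
    refine exists_orderOf_eq_of_dvd (g := z) ?_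
    rw [← Nat.div_mul_cancel h1, hk]
    exact Nat.mul_dvd_mul_right (dvd_pow_self p hk0) _

/-- **Mazurov's lemma.** -/
theorem mazurov {G H : Type*} [Group G] [Finite G] [Group H] {p : ℕ} (hp : p.Prime)
    (f : G →* H) (hf : Function.Surjective f) (hQ : IsPGroup p f.ker) (K : Subgroup H)
    {x : H} (hx : x ∈ Subgroup.normalizer (K : Set H))
    (hfpf : ∀ i : ℕ, x ^ i ≠ 1 → ∀ k ∈ K, x ^ i * k = k * x ^ i → k = 1)
    (hK : ¬ p ∣ Nat.card K) {g : G} (hg : f g ∈ K) (hgp : (orderOf g).Coprime p) {q : G}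
    (hq : q ∈ f.ker) (hne : g * q ≠ q * g) : p * orderOf x ∈ Set.range (orderOf : G → ℕ) :=
  have := Fact.mk hp
  have := Finite.of_surjective f hf
  mazurov_aux K hx hfpf hK G f hf hQ g hg hgp ⟨q, hq, hne⟩

/-- An element of order prime to `p` lifts to such an element over a `p`-group kernel. -/
theorem exists_lift_coprime {G H : Type*} [Group G] [Finite G] [Group H] {p : ℕ} (hp : p.Prime)
    (f : G →* H) (hf : Function.Surjective f) {k : H} (hk : (orderOf k).Coprime p) :
    ∃ g : G, f g = k ∧ (orderOf g).Coprime p := by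
  obtain ⟨g, rfl⟩ := hf k
  obtain ⟨a, m, hm, e⟩ := Nat.exists_eq_pow_mul_and_not_dvd (orderOf_pos g).ne' p hp.ne_one
  obtain ⟨b, hb⟩ := exists_pow_eq_self_of_coprime (x := f g) (n := p ^ a) (hk.symm.pow_left a)
  refine ⟨(g ^ p ^ a) ^ b, by rw [map_pow, map_pow, hb], ?_⟩
  refine Nat.Coprime.coprime_dvd_left ((orderOf_pow_dvd b).trans (orderOf_dvd_of_pow_eq_one
    (n := m) ?_)) ((Nat.Prime.coprime_iff_not_dvd hp).2 hm).symm
  rw [← pow_mul, ← e, pow_orderOf_eq_one]

end Cfsg.Agent.Misc.Spec
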