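import Mathlib
import Cfsg.Agent.Class.PGammaL2
import Cfsg.Agent.Misc.SpecL2
import Cfsg.Agent.CIT.L2Conj

/-!
Element orders in almost simple groups with socle `PSL₂(q)`, realised as subgroups `A` of
`Aut PSL₂(q)` containing the inner automorphisms.
-/

set_option autoImplicit false

namespace Cfsg.Agent.Misc.Spec

open Matrix MatrixGroups Cfsg.Agent.Class.Dickson

variable {F : Type*} [Field F] [Fintype F]

/-- The inner automorphisms. -/
noncomputable abbrev Inn (F : Type*) [Field F] [Fintype F] : Subgroup (Gam F) := (pslSub F).map io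

/-- The field automorphisms as a homomorphism. -/
noncomputable def phiHom : RingAut F →* Gam F := MonoidHom.mk' phi phi_mul

theorem phi_pow (σ : RingAut F) (n : ℕ) : phi (σ ^ n) = phi σ ^ n := map_pow phiHom σ n

theorem phi_one : phi (1 : RingAut F) = 1 := map_one phiHom

theorem orderOf_phi (σ : RingAut F) : orderOf (phi σ) = orderOf σ :=
  orderOf_injective phiHom (fun a b h => by
    rw [← piG_phi a, ← piG_phi b]
    exact congrArg piG h) σ

theorem pslSub_eq_top (h2 : (2 : F) = 0) : pslSub F = ⊤ := by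
  rw [eq_top_iff]
  intro g _
  obtain ⟨a, rfl⟩ := exists_pmk g
  rw [pmk_mem_pslSub_iff]
  have : CharP F 2 := CharTwo.of_one_ne_zero_of_two_eq_zero one_ne_zero h2
  exact FiniteField.isSquare_of_char_two (ringChar.eq F 2) _

theorem mul_pmap_mem (σ : RingAut F) (b : PGL(2, F)) : b * pmap (σ : F →+* F) b ∈ pslSub F := by
  by_cases h2 : (2 : F) = 0
  · rw [pslSub_eq_top h2]
    trivial
  · exact (Subgroup.mul_mem_iff_of_index_two (index_pslSub h2)).2 (pmap_mem_pslSub_iff σ).symm

variable {A : Subgroup (Gam F)}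

theorem phi_sq_mem (hA : Inn F ≤ A) {a : Gam F} (ha : a ∈ A) : phi (piG a ^ 2) ∈ A := by
  obtain ⟨b, hb⟩ := exists_decomp a
  have h1 : a * a = io (b * pmap (piG a : F →+* F) b) * phi (piG a ^ 2) := by
    rw [sq, phi_mul, map_mul, mul_assoc, ← mul_assoc (io (pmap _ b)), ← phi_io, mul_assoc,
      ← mul_assoc, ← hb]
  have h2 := A.mul_mem (A.inv_mem (hA ⟨_, mul_pmap_mem (piG a) b, rfl⟩)) (A.mul_mem ha ha)
  rwa [h1, inv_mul_cancel_left] at h2

theorem phi_mem_of_two (hA : Inn F ≤ A) (h2 : (2 : F) = 0) {a : Gam F} (ha : a ∈ A) :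
    phi (piG a) ∈ A := by
  obtain ⟨b, hb⟩ := exists_decomp a
  have h3 := A.mul_mem (A.inv_mem (hA ⟨b, pslSub_eq_top h2 ▸ trivial, rfl⟩)) ha
  rwa [hb, inv_mul_cancel_left] at h3

/-- A group inducing a nontrivial field automorphism contains a field automorphism of prime order,
if the characteristic is `2` or the group of field automorphisms has odd order. -/
theorem exists_phi_prime (hA : Inn F ≤ A) (h : (2 : F) = 0 ∨ Odd (Nat.card (RingAut F)))
    {a : Gam F} (ha : a ∈ A) (h1 : piG a ≠ 1) :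
    ∃ τ : RingAut F, (orderOf τ).Prime ∧ phi τ ∈ A := by
  obtain ⟨σ, hσ, hσ1⟩ : ∃ σ : RingAut F, phi σ ∈ A ∧ σ ≠ 1 := by
    rcases h with h | h
    · exact ⟨_, phi_mem_of_two hA h ha, h1⟩
    · refine ⟨_, phi_sq_mem hA ha, fun h2 => h1 ?_⟩
      have h3 := Nat.dvd_gcd (orderOf_dvd_of_pow_eq_one h2) (orderOf_dvd_natCard (piG a))
      rwa [Nat.coprime_two_left.2 h, Nat.dvd_one, orderOf_eq_one_iff] at h3
  obtain ⟨s, hs, hd⟩ := Nat.exists_prime_and_dvd (orderOf_eq_one_iff.not.2 hσ1)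
  refine ⟨σ ^ (orderOf σ / s), ?_, phi_pow σ _ ▸ A.pow_mem hσ _⟩
  rwa [orderOf_pow_orderOf_div (orderOf_pos σ).ne' hd]

/-- A field automorphism centralizes the elements over the prime field. -/
theorem mul_mem_range_of_phi (hA : Inn F ≤ A) (p : ℕ) [Fact p.Prime] [CharP F p] {τ : RingAut F}
    (hτ : phi τ ∈ A) (y : PSL(2, ZMod p)) (hc : (orderOf y).Coprime (orderOf τ)) :
    orderOf y * orderOf τ ∈ Set.range (orderOf : A → ℕ) := by
  let f : ZMod p →+* F := ZMod.castHom (dvd_refl p) F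
  have hx : pmap f (pslTo _ y) ∈ pslSub F := pmap_mem_pslSub f (pslTo_mem_pslSub y)
  have ho : orderOf (io (pmap f (pslTo _ y))) = orderOf y := by
    rw [orderOf_injective io io_injective, orderOf_injective _ (pmap_injective f),
      orderOf_injective _ pslTo_injective]
  have hcomm : Commute (io (pmap f (pslTo _ y))) (phi τ) := by
    rw [Commute, SemiconjBy, phi_io, pmap_pmap, RingHom.ext_zmod ((τ : F →+* F).comp f) f]
  refine ⟨⟨_, A.mul_mem (hA ⟨_, hx, rfl⟩) hτ⟩, ?_⟩
  rw [Subgroup.orderOf_mk, hcomm.orderOf_mul_eq_mul_orderOf_of_coprime (by rwa [ho, orderOf_phi]),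
    ho, orderOf_phi]

theorem two_mul_mem_of_phi (hA : Inn F ≤ A) {τ : RingAut F} (hτ : phi τ ∈ A)
    (ho : Odd (orderOf τ)) : 2 * orderOf τ ∈ Set.range (orderOf : A → ℕ) := by
  obtain ⟨p, _, -, hp, -⟩ := FiniteField.card' F
  have := Fact.mk hp
  obtain ⟨y, hy⟩ := CIT.L2C.exists_two (F := ZMod p)
  have := mul_mem_range_of_phi hA p hτ y (by rw [hy]; exact Nat.coprime_two_left.2 ho)
  rwa [hy] at this

theorem three_mul_mem_of_phi (hA : Inn F ≤ A) {τ : RingAut F} (hτ : phi τ ∈ A)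
    (ho : ¬ 3 ∣ orderOf τ) : 3 * orderOf τ ∈ Set.range (orderOf : A → ℕ) := by
  obtain ⟨p, _, -, hp, -⟩ := FiniteField.card' F
  have := Fact.mk hp
  obtain ⟨y, hy⟩ := CIT.L2C.exists_three (F := ZMod p)
  exact hy ▸ mul_mem_range_of_phi hA p hτ y (hy ▸ (Nat.prime_three.coprime_iff_not_dvd).2 ho)

omit [Fintype F] in
theorem exists_sum_ne_zero (τ : RingAut F) (h : 0 < orderOf τ) :
    ∃ a : F, ∑ i ∈ Finset.range (orderOf τ), (τ ^ i) a ≠ 0 := by
  by_contra hcon
  push Not at hcon
  have hl := (linearIndependent_monoidHom F F).comp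
    (fun i : Fin (orderOf τ) => ((τ ^ (i : ℕ) : RingAut F) : F →* F)) (fun i j hij => by
      refine Fin.ext (pow_injOn_Iio_orderOf (x := τ) i.2 j.2 (RingEquiv.ext fun a => ?_))
      exact DFunLike.congr_fun hij a)
  have := Fintype.linearIndependent_iff.1 hl (fun _ => 1) (by
    ext a
    have := hcon a
    rw [Finset.sum_range] at this
    simpa using this) ⟨0, h⟩
  exact one_ne_zero this

theorem transl_phi_pow (τ : RingAut F) (a : F) (n : ℕ) :
    (io (transl a) * phi τ) ^ n = io (transl (∑ i ∈ Finset.range n, (τ ^ i) a)) * phi (τ ^ n) := by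
  induction n with
  | zero => simp [transl_zero, phi_one]
  | succ n ih =>
    rw [pow_succ, ih, mul_assoc, ← mul_assoc (phi _), phi_io, pmap_transl, Finset.sum_range_succ,
      transl_add, map_mul, pow_succ, phi_mul]
    simp only [mul_assoc]
    rfl

/-- A field automorphism gives an element of order `p` times its order. -/
theorem char_mul_mem_of_phi (hA : Inn F ≤ A) (p : ℕ) [hp : Fact p.Prime] [CharP F p]
    {τ : RingAut F} (hτ : phi τ ∈ A) : p * orderOf τ ∈ Set.range (orderOf : A → ℕ) := by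
  obtain ⟨a, ha⟩ := exists_sum_ne_zero τ (orderOf_pos τ)
  have hmem : ∀ b : F, transl b ∈ pslSub F := fun b => by
    rw [transl, pmk_mem_pslSub_iff]
    simp
  let z : A := ⟨io (transl a) * phi τ, A.mul_mem (hA ⟨_, hmem a, rfl⟩) hτ⟩
  have h1 : orderOf τ ∣ orderOf (z : Gam F) := by
    have := orderOf_map_dvd piG (z : Gam F)
    rwa [map_mul, piG_io, piG_phi, one_mul] at this
  have h2 : orderOf ((z : Gam F) ^ orderOf τ) = p := by
    rw [transl_phi_pow, pow_orderOf_eq_one, phi_one, mul_one, orderOf_injective io io_injective]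
    refine orderOf_eq_prime ?_ (transl_eq_one_iff.not.2 ha)
    rw [transl_pow, CharP.cast_eq_zero, zero_mul, transl_zero]
  rw [orderOf_pow_of_dvd (orderOf_pos τ).ne' h1] at h2
  exact ⟨z, by rw [← Subgroup.orderOf_coe, ← h2, Nat.div_mul_cancel h1]⟩

theorem range_PSL_subset (hA : Inn F ≤ A) :
    Set.range (orderOf : PSL(2, F) → ℕ) ⊆ Set.range (orderOf : A → ℕ) := by
  rintro _ ⟨y, rfl⟩
  refine ⟨⟨_, hA ⟨_, pslTo_mem_pslSub y, rfl⟩⟩, ?_⟩
  rw [Subgroup.orderOf_mk, orderOf_injective io io_injective, orderOf_injective _ pslTo_injective]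

/-- A group containing a diagonal automorphism contains `PGL₂`. -/
theorem range_PGL_subset (hA : Inn F ≤ A) {g : PGL(2, F)} (hg : io g ∈ A) (hg' : g ∉ pslSub F) :
    Set.range (orderOf : PGL(2, F) → ℕ) ⊆ Set.range (orderOf : A → ℕ) := by
  have h2 : (2 : F) ≠ 0 := fun h => hg' (pslSub_eq_top h ▸ trivial)
  rintro _ ⟨y, rfl⟩
  have hy : io y ∈ A := by
    by_cases h : y ∈ pslSub F
    · exact hA ⟨y, h, rfl⟩
    · have h1 : y * g⁻¹ ∈ pslSub F := (Subgroup.mul_mem_iff_of_index_two (index_pslSub h2)).2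
        (by rw [inv_mem_iff]; exact iff_of_false h hg')
      have := A.mul_mem (hA ⟨_, h1, rfl⟩) hg
      rwa [← map_mul, inv_mul_cancel_right] at this
  exact ⟨⟨_, hy⟩, by rw [Subgroup.orderOf_mk, orderOf_injective io io_injective]⟩

/-- A group with a self-centralizing normal subgroup `PSL₂(q)` embeds in `Aut PSL₂(q)`. -/
theorem exists_gam {G : Type*} [Group G] (N : Subgroup G) [N.Normal] (e : N ≃* PSL(2, F))
    (hc : Subgroup.centralizer (N : Set G) = ⊥) :
    ∃ ψ : G →* Gam F, Function.Injective ψ ∧ N.map ψ = Inn F := by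
  refine ⟨(MulAut.congr e).toMonoidHom.comp MulAut.conjNormal, ?_, ?_⟩
  · refine (MulAut.congr e).injective.comp ((injective_iff_map_eq_one _).2 fun g hg => ?_)
    rw [← Subgroup.mem_bot, ← hc]
    intro n hn
    have := congrArg Subtype.val (DFunLike.congr_fun hg ⟨n, hn⟩)
    rw [MulAut.conjNormal_apply] at this
    exact (mul_inv_eq_iff_eq_mul.1 this).symm
  · have key : ∀ n : N, (MulAut.congr e).toMonoidHom.comp MulAut.conjNormal n =
        io (pslTo F (e n)) := fun n => by
      rw [io_pslTo]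
      ext x
      simp [MulAut.conjNormal_val]
    ext a
    constructor
    · rintro ⟨n, hn, rfl⟩
      exact ⟨_, pslTo_mem_pslSub _, (key ⟨n, hn⟩).symm⟩
    · rintro ⟨_, ⟨y, rfl⟩, rfl⟩
      refine ⟨e.symm y, (e.symm y).2, (key _).trans ?_⟩
      rw [e.apply_symm_apply]

end Cfsg.Agent.Misc.Spec
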